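import Cfsg.Agent.Lib.SylowDerived.Basic
import Cfsg.Agent.Lib.PGroup.Basic
import Mathlib.LinearAlgebra.Eigenspace.Pi
import Mathlib.LinearAlgebra.Eigenspace.Semisimple
import Mathlib.LinearAlgebra.Eigenspace.Triangularizable
import Mathlib.FieldTheory.Separable
import Mathlib.LinearAlgebra.Dimension.Finite

/-!
# Finite p-groups of linear transformations

* `exists_fixed_ne_zero`: in characteristic p a p-group fixes a nonzero vector
* `exists_invariant_finrank`: ... and has invariant subspaces of every dimension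
* `derivedSeries_le_ker_of_finrank_le`: ... so derived length `≤ k` on dimension `≤ 2^k`
* `exists_abelian_normal_selfCentralizing`
* `ncard_weights_le`, `weight_conj`, `derivedSeries_eq_bot_of_weight_orbits`
* `derivedSeries_eq_bot_of_ne_char`: derived length `≤ log_p n + 1` otherwise
-/

set_option autoImplicit false

open scoped commutatorElement
open Module

namespace Cfsg.Agent.LinearPGroup

variable {G : Type*} [Group G] {p : ℕ}

section CharEq

variable {F : Type*} [Field F] [CharP F p]

theorem exists_fixed_ne_zero [Finite G] [hp : Fact p.Prime] (hG : IsPGroup p G) {V : Type*}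
    [AddCommGroup V] [Module F V] [Nontrivial V] (ρ : G →* Module.End F V) :
    ∃ v : V, v ≠ 0 ∧ ∀ g, ρ g v = v := by
  obtain ⟨v, hv⟩ := exists_ne (0 : V)
  let S : AddSubgroup V := AddSubgroup.closure (Set.range fun g => ρ g v)
  have hS : ∀ g, ∀ x ∈ S, ρ g x ∈ S := by
    intro g x hx
    have : S ≤ S.comap (ρ g).toAddMonoidHom := by
      refine (AddSubgroup.closure_le _).2 ?_
      rintro _ ⟨k, rfl⟩
      exact AddSubgroup.subset_closure ⟨g * k, by show ρ (g * k) v = ρ g (ρ k v); rw [map_mul]; rfl⟩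
    exact this hx
  have htor : ∀ x : V, p • x = 0 := fun x => by
    rw [← Nat.cast_smul_eq_nsmul F, CharP.cast_eq_zero, zero_smul]
  haveI : AddGroup.FG S := by
    have : Finite (Set.range fun g => ρ g v) := Set.finite_range _
    exact AddGroup.fg_iff_addSubgroup_fg S |>.2 ⟨(Set.finite_range fun g => ρ g v).toFinset, by simp [S]⟩
  haveI : Finite S := AddCommGroup.finite_of_fg_torsion _ fun x =>
    isOfFinAddOrder_iff_nsmul_eq_zero.2 ⟨p, hp.out.pos, Subtype.ext (htor x)⟩
  letI : MulAction G S :=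
    { smul := fun g x => ⟨ρ g x, hS g x x.2⟩
      one_smul := fun x => Subtype.ext (by show ρ 1 (x : V) = x; simp)
      mul_smul := fun g k x => Subtype.ext (by show ρ (g * k) (x : V) = ρ g (ρ k x); rw [map_mul]; rfl) }
  have hvS : v ∈ S := AddSubgroup.subset_closure ⟨1, by simp⟩
  have hdvd : p ∣ Nat.card S := by
    have h1 : addOrderOf (⟨v, hvS⟩ : S) = p :=
      addOrderOf_eq_prime (Subtype.ext (htor v)) fun h => hv (congrArg Subtype.val h)
    rw [← h1]
    exact addOrderOf_dvd_natCard _
  obtain ⟨b, hb, hne⟩ := hG.exists_fixed_point_of_prime_dvd_card_of_fixed_point S hdvd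
    (a := 0) (fun g => Subtype.ext (map_zero (ρ g)))
  exact ⟨b, fun h => hne (Subtype.ext h.symm), fun g => congrArg Subtype.val (hb g)⟩

theorem exists_invariant_finrank [Finite G] [Fact p.Prime] (hG : IsPGroup p G) {V : Type*}
    [AddCommGroup V] [Module F V] [FiniteDimensional F V] (ρ : G →* Module.End F V) :
    ∀ m : ℕ, m ≤ finrank F V →
      ∃ U : Submodule F V, finrank F U = m ∧ ∀ g, ∀ u ∈ U, ρ g u ∈ U := by
  intro m
  induction m with
  | zero => exact fun _ => ⟨⊥, finrank_bot F V, fun g u hu => by simp_all⟩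
  | succ m ih =>
    intro hm
    obtain ⟨U, hU, hinv⟩ := ih (by omega)
    let ρ' : G →* Module.End F (V ⧸ U) :=
      { toFun := fun g => U.mapQ U (ρ g) fun u hu => hinv g u hu
        map_one' := LinearMap.ext fun x => by
          obtain ⟨x, rfl⟩ := Submodule.Quotient.mk_surjective U x
          simp
        map_mul' := fun g k => LinearMap.ext fun x => by
          obtain ⟨x, rfl⟩ := Submodule.Quotient.mk_surjective U x
          simp }
    have hpos : 0 < finrank F (V ⧸ U) := by
      have := U.finrank_quotient_add_finrank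
      omega
    haveI : Nontrivial (V ⧸ U) := Module.nontrivial_of_finrank_pos hpos
    obtain ⟨b, hb, hfix⟩ := exists_fixed_ne_zero hG ρ'
    refine ⟨(Submodule.span F {b}).comap U.mkQ, ?_, fun g u hu => ?_⟩
    · have h1 := LinearMap.finrank_range_add_finrank_ker
        (U.mkQ.domRestrict ((Submodule.span F {b}).comap U.mkQ))
      have h2 : LinearMap.range (U.mkQ.domRestrict ((Submodule.span F {b}).comap U.mkQ)) =
          Submodule.span F {b} := by
        rw [LinearMap.range_domRestrict,
          Submodule.map_comap_eq_of_surjective (Submodule.mkQ_surjective U)]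
      have hle : U ≤ (Submodule.span F {b}).comap U.mkQ := fun u hu => by
        rw [Submodule.mem_comap, Submodule.mkQ_apply, (Submodule.Quotient.mk_eq_zero U).2 hu]
        exact Submodule.zero_mem _
      have h3 : finrank F (LinearMap.ker (U.mkQ.domRestrict ((Submodule.span F {b}).comap U.mkQ))) =
          finrank F U := by
        rw [LinearMap.ker_domRestrict, Submodule.ker_mkQ]
        exact (Submodule.comapSubtypeEquivOfLe hle).finrank_eq
      rw [h2, h3, finrank_span_singleton hb, hU] at h1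
      omega
    · rw [Submodule.mem_comap, Submodule.mem_span_singleton] at hu ⊢
      obtain ⟨c, hc⟩ := hu
      refine ⟨c, ?_⟩
      have : U.mkQ (ρ g u) = ρ' g (U.mkQ u) := rfl
      rw [this, ← hc, map_smul, hfix]

/-- In characteristic p, a p-group on dimension at most `2^k` has `k`-th derived group trivial there. -/
theorem derivedSeries_le_ker_of_finrank_le [Finite G] [hp : Fact p.Prime] (hG : IsPGroup p G) (k : ℕ) :
    ∀ (V : Type*) [AddCommGroup V] [Module F V] [FiniteDimensional F V] (ρ : G →* Module.End F V),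
      finrank F V ≤ 2 ^ k → ∀ d ∈ derivedSeries G k, ρ d = 1 := by
  induction k with
  | zero =>
    intro V _ _ _ ρ hV d _
    rcases subsingleton_or_nontrivial V with hs | hnt
    · exact LinearMap.ext fun x => Subsingleton.elim _ _
    obtain ⟨v, hv, hfix⟩ := exists_fixed_ne_zero hG ρ
    have h1 : finrank F V = 1 := by
      have := Module.finrank_pos (R := F) (M := V)
      simp at hV
      omega
    refine LinearMap.ext fun x => ?_
    obtain ⟨c, rfl⟩ := exists_smul_eq_of_finrank_eq_one h1 hv x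
    simp [hfix]
  | succ k ih =>
    intro V _ _ _ ρ hV d hd
    obtain ⟨U, hU, hinv⟩ := exists_invariant_finrank hG ρ (min (2 ^ k) (finrank F V)) (min_le_right _ _)
    let ρ₁ : G →* Module.End F U :=
      { toFun := fun g => (ρ g).restrict (hinv g)
        map_one' := LinearMap.ext fun x => Subtype.ext (by simp)
        map_mul' := fun g h => LinearMap.ext fun x => Subtype.ext (by simp) }
    let ρ₂ : G →* Module.End F (V ⧸ U) :=
      { toFun := fun g => U.mapQ U (ρ g) fun u hu => hinv g u hu
        map_one' := LinearMap.ext fun x => by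
          obtain ⟨x, rfl⟩ := Submodule.Quotient.mk_surjective U x
          simp
        map_mul' := fun g h => LinearMap.ext fun x => by
          obtain ⟨x, rfl⟩ := Submodule.Quotient.mk_surjective U x
          simp }
    have hq : finrank F (V ⧸ U) ≤ 2 ^ k := by
      have := U.finrank_quotient_add_finrank
      rw [pow_succ] at hV
      omega
    have k1 := ih U ρ₁ (by omega)
    have k2 := ih (V ⧸ U) ρ₂ hq
    have hfixU : ∀ a ∈ derivedSeries G k, ∀ u ∈ U, ρ a u = u := fun a ha u hu =>
      congrArg Subtype.val (LinearMap.congr_fun (k1 a ha) ⟨u, hu⟩ :)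
    have hmoveU : ∀ a ∈ derivedSeries G k, ∀ x, ρ a x - x ∈ U := fun a ha x =>
      (Submodule.Quotient.eq U).1 (LinearMap.congr_fun (k2 a ha) (Submodule.Quotient.mk x) :)
    have hcomm : ∀ a ∈ derivedSeries G k, ∀ b ∈ derivedSeries G k, ρ a * ρ b = ρ b * ρ a := by
      intro a ha b hb
      refine LinearMap.ext fun x => ?_
      have e : ∀ a ∈ derivedSeries G k, ∀ b ∈ derivedSeries G k, ρ a (ρ b x) = ρ a x + ρ b x - x := by
        intro a ha b hb
        conv_lhs => rw [← sub_add_cancel (ρ b x) x, map_add, hfixU a ha _ (hmoveU b hb x)]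
        abel
      show ρ a (ρ b x) = ρ b (ρ a x)
      rw [e a ha b hb, e b hb a ha]
      abel
    have hle : derivedSeries G (k + 1) ≤ (ρ.toHomUnits).ker := by
      rw [derivedSeries_succ, Subgroup.commutator_le]
      intro a ha b hb
      rw [MonoidHom.mem_ker, map_commutatorElement, commutatorElement_eq_one_iff_mul_comm]
      exact Units.ext (hcomm a ha b hb)
    exact congrArg Units.val (MonoidHom.mem_ker.1 (hle hd))

end CharEq

theorem exists_abelian_normal_selfCentralizing [Finite G] [Fact p.Prime] (hG : IsPGroup p G) :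
    ∃ A : Subgroup G, A.Normal ∧ (∀ a ∈ A, ∀ b ∈ A, a * b = b * a) ∧
      ∀ x, (∀ a ∈ A, x * a = a * x) → x ∈ A := by
  obtain ⟨A, ⟨hAn, hAc⟩, hmax⟩ := wellFounded_gt.has_min
    {A : Subgroup G | A.Normal ∧ ∀ a ∈ A, ∀ b ∈ A, a * b = b * a}
    ⟨⊥, Subgroup.normal_bot, fun a ha b hb => by simp_all [Subgroup.mem_bot]⟩
  haveI := hAn
  refine ⟨A, hAn, hAc, ?_⟩
  by_contra hcon
  push Not at hcon
  obtain ⟨x, hx, hxA⟩ := hcon
  set C := Subgroup.centralizer (A : Set G)
  let f := QuotientGroup.mk' A
  haveI : (C.map f).Normal := Subgroup.Normal.map inferInstance f (QuotientGroup.mk'_surjective A)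
  have hne : C.map f ≠ ⊥ := fun h => by
    have hxC : x ∈ C := Subgroup.mem_centralizer_iff.2 fun a ha => (hx a ha).symm
    have : f x ∈ C.map f := Subgroup.mem_map_of_mem f hxC
    rw [h, Subgroup.mem_bot] at this
    exact hxA ((QuotientGroup.eq_one_iff x).1 this)
  obtain ⟨z, hz, hz1⟩ : ∃ z ∈ C.map f ⊓ Subgroup.center (G ⧸ A), z ≠ 1 := by
    by_contra hh
    push Not at hh
    exact Cfsg.Agent.PGroup.inf_center_ne_bot (hG.to_quotient A) hne
      (eq_bot_iff.2 fun y hy => Subgroup.mem_bot.2 (hh y hy))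
  obtain ⟨⟨y, hyC, rfl⟩, hyZ⟩ := hz
  have hyA : y ∉ A := fun h => hz1 ((QuotientGroup.eq_one_iff y).2 h)
  let B : Subgroup G := A ⊔ Subgroup.zpowers y
  have hBn : B.Normal := by
    have e : B = (Subgroup.zpowers (f y)).comap f := by
      rw [← MonoidHom.map_zpowers, Subgroup.comap_map_eq, QuotientGroup.ker_mk', sup_comm]
    rw [e]
    refine Subgroup.Normal.comap ⟨fun n hn g => ?_⟩ f
    obtain ⟨i, rfl⟩ := hn
    rw [Subgroup.mem_center_iff.1 (Subgroup.zpow_mem _ hyZ i) g, mul_inv_cancel_right]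
    exact Subgroup.zpow_mem_zpowers _ _
  have hBc : ∀ a ∈ B, ∀ b ∈ B, a * b = b * a := by
    intro a ha b hb
    rw [Subgroup.mem_sup_of_normal_left] at ha hb
    obtain ⟨a₁, ha₁, _, ⟨i, rfl⟩, rfl⟩ := ha
    obtain ⟨b₁, hb₁, _, ⟨j, rfl⟩, rfl⟩ := hb
    have cy : ∀ a ∈ A, Commute a y := fun a ha => Subgroup.mem_centralizer_iff.1 hyC a ha
    exact Commute.mul_mul_mul_comm (((cy b₁ hb₁).zpow_right i).symm) _ _ |>.trans (by
      rw [hAc a₁ ha₁ b₁ hb₁, ← zpow_add, add_comm, zpow_add,
        Commute.mul_mul_mul_comm ((cy a₁ ha₁).zpow_right j)])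
  exact hmax B ⟨hBn, hBc⟩ (lt_of_le_of_ne le_sup_left fun h => hyA (by
    rw [h]; exact Subgroup.mem_sup_right (Subgroup.mem_zpowers y)))

section CharNe

variable {L : Type*} [Field L] [IsAlgClosed L]

theorem eigen_of_mem_maxGen {V : Type*} [AddCommGroup V] [Module L V] [FiniteDimensional L V]
    {f : Module.End L V} {m : ℕ} (hm : (m : L) ≠ 0) (hf : f ^ m = 1) {μ : L} {v : V}
    (hv : v ∈ f.maxGenEigenspace μ) : f v = μ • v := by
  have hs : f.IsSemisimple := by
    refine Module.End.isSemisimple_of_squarefree_aeval_eq_zero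
      (p := Polynomial.X ^ m - Polynomial.C (1 : L))
      (Polynomial.separable_X_pow_sub_C (1 : L) hm one_ne_zero).squarefree ?_
    simp [hf]
  rw [hs.isFinitelySemisimple.maxGenEigenspace_eq_eigenspace] at hv
  exact Module.End.mem_eigenspace_iff.1 hv

/-- The weights of an abelian subgroup are at most `dim V` in number. -/
theorem ncard_weights_le {V : Type*} [AddCommGroup V] [Module L V] [FiniteDimensional L V]
    (ρ : G →* Module.End L V) (A : Subgroup G) (hAc : ∀ a ∈ A, ∀ b ∈ A, a * b = b * a) :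
    {χ : A → L | ∃ v : V, v ≠ 0 ∧ ∀ a : A, ρ a v = χ a • v}.Finite ∧
      {χ : A → L | ∃ v : V, v ≠ 0 ∧ ∀ a : A, ρ a v = χ a • v}.ncard ≤ finrank L V := by
  classical
  let f : A → Module.End L V := fun a => ρ a
  let W : (A → L) → Submodule L V := fun χ => ⨅ a, (f a).maxGenEigenspace (χ a)
  have hcomm : ∀ a b : A, Commute (f a) (f b) := fun a b => by
    show ρ a * ρ b = ρ b * ρ a
    rw [← map_mul, hAc a a.2 b b.2, map_mul]
  have hind : iSupIndep W := Module.End.independent_iInf_maxGenEigenspace_of_forall_mapsTo f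
    fun a b φ => Module.End.mapsTo_maxGenEigenspace_of_comm (hcomm b a) φ
  have hsub : {χ : A → L | ∃ v : V, v ≠ 0 ∧ ∀ a : A, ρ a v = χ a • v} ⊆ {χ | W χ ≠ ⊥} := by
    rintro χ ⟨v, hv, heig⟩ h
    have hvW : v ∈ W χ := (Submodule.mem_iInf _).2 fun a =>
      Module.End.genEigenspace_le_maximal (f a) (χ a) 1 (Module.End.mem_eigenspace_iff.2 (heig a))
    rw [h, Submodule.mem_bot] at hvW
    exact hv hvW
  have hSfin : {χ | W χ ≠ ⊥}.Finite := Submodule.finite_ne_bot_of_iSupIndep hind
  haveI : Fintype {χ // W χ ≠ ⊥} := hSfin.fintype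
  refine ⟨hSfin.subset hsub, (Set.ncard_le_ncard hsub hSfin).trans ?_⟩
  have h := hind.subtype_ne_bot_le_finrank
  rw [← Nat.card_eq_fintype_card] at h
  rwa [← Nat.card_coe_set_eq]

/-- If all orbits on weights are short, the derived length is small. -/
theorem derivedSeries_eq_bot_of_weight_orbits [Finite G] [hp : Fact p.Prime] (hG : IsPGroup p G)
    (hpL : (p : L) ≠ 0) {V : Type*} [AddCommGroup V] [Module L V] [FiniteDimensional L V]
    (ρ : G →* Module.End L V) (hρ : Function.Injective ρ) (k : ℕ)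
    (horb : ∀ (A : Subgroup G) [A.Normal], (∀ a ∈ A, ∀ b ∈ A, a * b = b * a) → ∀ χ : A → L,
      (∃ v : V, v ≠ 0 ∧ ∀ a : A, ρ a v = χ a • v) →
      (Set.range fun g : G => fun a : A => χ ((MulAut.conjNormal g)⁻¹ a)).ncard < p ^ (k + 1)) :
    derivedSeries G (k + 1) = ⊥ := by
  classical
  obtain ⟨A, hAn, hAc, hself⟩ := exists_abelian_normal_selfCentralizing hG
  obtain ⟨e, he⟩ := hG.exists_card_eq
  have hm : ((Nat.card G : ℕ) : L) ≠ 0 := by rw [he, Nat.cast_pow]; exact pow_ne_zero _ hpL
  let f : A → Module.End L V := fun a => ρ a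
  let W : (A → L) → Submodule L V := fun χ => ⨅ a, (f a).maxGenEigenspace (χ a)
  have hcomm : ∀ a b : A, Commute (f a) (f b) := fun a b => by
    show ρ a * ρ b = ρ b * ρ a
    rw [← map_mul, hAc a a.2 b b.2, map_mul]
  have heig : ∀ (χ : A → L) (v : V), v ∈ W χ → ∀ a : A, ρ a v = χ a • v := fun χ v hv a =>
    eigen_of_mem_maxGen hm (by show ρ a ^ _ = 1; rw [← map_pow, pow_card_eq_one', map_one])
      ((Submodule.mem_iInf _).1 hv a)
  have htop : ⨆ χ, W χ = ⊤ :=
    Module.End.iSup_iInf_maxGenEigenspace_eq_top_of_iSup_maxGenEigenspace_eq_top_of_commute f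
      (fun a b _ => hcomm a b) fun a => Module.End.iSup_maxGenEigenspace_eq_top (f a)
  letI : MulAction G (A → L) :=
    { smul := fun g χ a => χ ((MulAut.conjNormal g)⁻¹ a)
      one_smul := fun χ => funext fun a => by show χ _ = χ a; simp
      mul_smul := fun g h χ => funext fun a => by show χ _ = χ _; simp }
  have hle : ∀ g ∈ derivedSeries G k, g ∈ A := by
    intro g hg
    have hfix : ∀ χ : A → L, W χ ≠ ⊥ → g • χ = χ := by
      intro χ hχ
      obtain ⟨v, hv, hv0⟩ := Submodule.exists_mem_ne_zero_of_ne_bot hχ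
      have hlt := horb A hAc χ ⟨v, hv0, heig χ v hv⟩
      obtain ⟨j, hj⟩ := hG.index (MulAction.stabilizer G χ)
      have hj' : (MulAction.orbit G χ).ncard = p ^ j := by rw [← MulAction.index_stabilizer, hj]
      have hjk : j ≤ k := by
        have h1 : p ^ j < p ^ (k + 1) := hj' ▸ hlt
        rw [Nat.pow_lt_pow_iff_right hp.out.one_lt] at h1
        omega
      exact Cfsg.Agent.SylowDerived.derivedSeries_le_of_index hG _ (hj ▸ pow_dvd_pow p hjk) hg
    refine hself g fun a ha => ?_
    have key : ρ (((MulAut.conjNormal g)⁻¹ ⟨a, ha⟩ : A) : G) = ρ a := by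
      refine LinearMap.ext fun x => ?_
      have hx : x ∈ ⨆ χ, W χ := htop ▸ Submodule.mem_top
      induction hx using Submodule.iSup_induction' with
      | mem χ v hv =>
        by_cases hχ : W χ = ⊥
        · rw [hχ, Submodule.mem_bot] at hv
          simp [hv]
        · rw [heig χ v hv, show ρ a v = χ ⟨a, ha⟩ • v from heig χ v hv ⟨a, ha⟩]
          congr 1
          exact congrFun (hfix χ hχ) ⟨a, ha⟩
      | zero => simp
      | add x y _ _ h1 h2 => rw [map_add, map_add, h1, h2]
    have := hρ key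
    rw [MulAut.conjNormal_inv_apply] at this
    show g * a = a * g
    conv_lhs => rw [← this]
    group
  rw [eq_bot_iff, derivedSeries_succ, Subgroup.commutator_le]
  intro a ha b hb
  rw [Subgroup.mem_bot, commutatorElement_eq_one_iff_mul_comm]
  exact hAc a (hle a ha) b (hle b hb)

omit [IsAlgClosed L] in
/-- Conjugates of a weight are weights. -/
theorem weight_conj {V : Type*} [AddCommGroup V] [Module L V] (ρ : G →* Module.End L V)
    (A : Subgroup G) [A.Normal] {χ : A → L} (hχ : ∃ v : V, v ≠ 0 ∧ ∀ a : A, ρ a v = χ a • v) (g : G) :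
    ∃ v : V, v ≠ 0 ∧ ∀ a : A, ρ a v = χ ((MulAut.conjNormal g)⁻¹ a) • v := by
  obtain ⟨v, hv, heig⟩ := hχ
  refine ⟨ρ g v, fun h => hv ?_, fun a => ?_⟩
  · have h2 : ρ g⁻¹ (ρ g v) = v := by
      rw [← Module.End.mul_apply, ← map_mul, inv_mul_cancel, map_one, Module.End.one_apply]
    rw [← h2, h, map_zero]
  · have e1 : (a : G) * g = g * ((MulAut.conjNormal g)⁻¹ a : A) := by
      rw [MulAut.conjNormal_inv_apply]; group
    calc ρ (a : G) (ρ g v) = ρ ((a : G) * g) v := by rw [map_mul]; rfl
      _ = ρ g (ρ ((MulAut.conjNormal g)⁻¹ a : A) v) := by rw [e1, map_mul]; rfl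
      _ = _ := by rw [heig, map_smul]

/-- Away from the characteristic, a faithful p-group on dimension n has derived length at most `log_p n + 1`. -/
theorem derivedSeries_eq_bot_of_ne_char [Finite G] [hp : Fact p.Prime] (hG : IsPGroup p G)
    (hpL : (p : L) ≠ 0) {V : Type*} [AddCommGroup V] [Module L V] [FiniteDimensional L V]
    (ρ : G →* Module.End L V) (hρ : Function.Injective ρ) :
    derivedSeries G (Nat.log p (finrank L V) + 1) = ⊥ := by
  refine derivedSeries_eq_bot_of_weight_orbits hG hpL ρ hρ _ fun A _ hAc χ hχ => ?_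
  obtain ⟨hfin, hcard⟩ := ncard_weights_le ρ A hAc
  refine lt_of_le_of_lt ((Set.ncard_le_ncard ?_ hfin).trans hcard) (Nat.lt_pow_succ_log_self hp.out.one_lt _)
  rintro _ ⟨g, rfl⟩
  exact weight_conj ρ A hχ g

end CharNe

end Cfsg.Agent.LinearPGroup
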