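import Cfsg.Agent.EqLemmas
import Mathlib.GroupTheory.RegularWreathProduct
import Mathlib.LinearAlgebra.Matrix.GeneralLinearGroup.Defs
import Mathlib.LinearAlgebra.Dimension.Constructions
import Mathlib.LinearAlgebra.FiniteDimensional.Basic

/-!
# Monomial representations of wreath products

* `wreathRep`: `D ≀ᵣ C` acts on `C → V` when `D` acts on `V`
* `exists_rep_iterated`: iterated wreath products of `C` act faithfully on dimension `d * |C|^j`
* `exists_hom_GL`: an injective representation on dimension `m ≤ n` gives an injective map to `GL n`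
-/

set_option autoImplicit false

namespace Cfsg.Agent.LinearPGroup

open Module

variable {F : Type*} [Field F] {D C : Type*} [Group D] [Group C] {V : Type*} [AddCommGroup V] [Module F V]

/-- The monomial representation. -/
def wreathRep (ρ : D →* Module.End F V) : D ≀ᵣ C →* Module.End F (C → V) where
  toFun w :=
    { toFun := fun f x => ρ (w.left x) (f (w.right⁻¹ * x))
      map_add' := fun f g => funext fun x => map_add (ρ (w.left x)) _ _
      map_smul' := fun c f => funext fun x => map_smul (ρ (w.left x)) c _ }
  map_one' := LinearMap.ext fun f => funext fun x => by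
    show ρ 1 (f ((1 : C)⁻¹ * x)) = f x
    simp
  map_mul' w u := LinearMap.ext fun f => funext fun x => by
    show ρ (w.left x * u.left (w.right⁻¹ * x)) (f ((w.right * u.right)⁻¹ * x)) =
      ρ (w.left x) (ρ (u.left (w.right⁻¹ * x)) (f (u.right⁻¹ * (w.right⁻¹ * x))))
    rw [map_mul, mul_inv_rev, mul_assoc]
    rfl

theorem wreathRep_injective [Nontrivial V] (ρ : D →* Module.End F V) (hρ : Function.Injective ρ) :
    Function.Injective (wreathRep (C := C) ρ) := by
  classical
  intro w u h
  have h' : ∀ (f : C → V) (x : C), ρ (w.left x) (f (w.right⁻¹ * x)) = ρ (u.left x) (f (u.right⁻¹ * x)) :=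
    fun f x => congrFun (LinearMap.congr_fun h f) x
  have hr : w.right = u.right := by
    by_contra hne
    obtain ⟨v, hv⟩ := exists_ne (0 : V)
    have := h' (Pi.single 1 v) w.right
    rw [inv_mul_cancel, Pi.single_eq_same,
      Pi.single_eq_of_ne (fun e => hne (inv_mul_eq_one.1 e).symm), map_zero] at this
    refine hv ?_
    have h2 : ρ (w.left w.right)⁻¹ (ρ (w.left w.right) v) = v := by
      rw [← Module.End.mul_apply, ← map_mul, inv_mul_cancel, map_one, Module.End.one_apply]
    rw [← h2, this, map_zero]
  refine RegularWreathProduct.ext (funext fun x => hρ (LinearMap.ext fun v => ?_)) hr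
  have := h' (fun _ => v) x
  exact this

theorem exists_rep_of_equiv {V' : Type*} [AddCommGroup V'] [Module F V'] (e : V ≃ₗ[F] V') {W : Type*}
    [Group W] (r : W →* Module.End F V) (hr : Function.Injective r) :
    ∃ r' : W →* Module.End F V', Function.Injective r' := by
  refine ⟨
    { toFun := fun w => e.toLinearMap ∘ₗ r w ∘ₗ e.symm.toLinearMap
      map_one' := by rw [map_one]; exact LinearMap.ext fun x => by simp
      map_mul' := fun a b => by rw [map_mul]; exact LinearMap.ext fun x => by simp }, fun a b h => ?_⟩
  exact hr (LinearMap.ext fun x => e.injective (by simpa using LinearMap.congr_fun h (e x)))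

theorem exists_rep_iterated [Finite C] {d : ℕ} (hd : 0 < d) (ρ : C →* Module.End F (Fin d → F))
    (hρ : Function.Injective ρ) (j : ℕ) :
    ∃ r : IteratedWreathProduct C (j + 1) →* Module.End F (Fin (d * Nat.card C ^ j) → F),
      Function.Injective r := by
  induction j with
  | zero =>
    rw [pow_zero, mul_one]
    refine ⟨ρ.comp (RegularWreathProduct.rightHom (D := IteratedWreathProduct C 0) (Q := C)), ?_⟩
    intro a b h
    exact RegularWreathProduct.ext (funext fun _ => Subsingleton.elim (α := PUnit) _ _) (hρ h)
  | succ j ih =>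
    obtain ⟨r, hr⟩ := ih
    haveI : Fintype C := Fintype.ofFinite C
    have hm : 0 < d * Nat.card C ^ j := Nat.mul_pos hd (pow_pos Nat.card_pos _)
    haveI : Nonempty (Fin (d * Nat.card C ^ j)) := ⟨⟨0, hm⟩⟩
    haveI : Nontrivial (Fin (d * Nat.card C ^ j) → F) := Function.nontrivial
    let e : (C → Fin (d * Nat.card C ^ j) → F) ≃ₗ[F] (Fin (d * Nat.card C ^ (j + 1)) → F) :=
      LinearEquiv.ofFinrankEq _ _ (by
        rw [Module.finrank_pi_fintype]
        simp only [Module.finrank_fin_fun, Finset.sum_const, Finset.card_univ, smul_eq_mul]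
        rw [Nat.card_eq_fintype_card, pow_succ]
        ring)
    exact exists_rep_of_equiv e (W := IteratedWreathProduct C (j + 1) ≀ᵣ C) (wreathRep r)
      (wreathRep_injective r hr)

theorem exists_hom_GL {W : Type*} [Group W] {m n : ℕ} (hmn : m ≤ n)
    (r : W →* Module.End F (Fin m → F)) (hr : Function.Injective r) :
    ∃ f : W →* Matrix.GeneralLinearGroup (Fin n) F, Function.Injective f := by
  let e : ((Fin m → F) × (Fin (n - m) → F)) ≃ₗ[F] (Fin n → F) :=
    LinearEquiv.ofFinrankEq _ _ (by simp; omega)
  let r' : W →* Module.End F (Fin n → F) :=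
    { toFun := fun w => e.toLinearMap ∘ₗ (r w).prodMap LinearMap.id ∘ₗ e.symm.toLinearMap
      map_one' := by rw [map_one]; exact LinearMap.ext fun x => by simp
      map_mul' := fun a b => by rw [map_mul]; exact LinearMap.ext fun x => by simp }
  refine ⟨((Matrix.toLinAlgEquiv' : Matrix (Fin n) (Fin n) F ≃ₐ[F] _).symm.toMonoidHom.comp r').toHomUnits,
    fun a b h => hr (LinearMap.ext fun x => ?_)⟩
  have h1 : r' a = r' b := Matrix.toLinAlgEquiv'.symm.injective (congrArg Units.val h)
  have h2 := e.injective (LinearMap.congr_fun h1 (e (x, 0)))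
  simpa using congrArg Prod.fst h2

end Cfsg.Agent.LinearPGroup
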